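import Mathlib
import Cfsg.Agent.Lib.Chev.RootOrbit
import Cfsg.Agent.Lib.Chev.Weyl

/-!
Checks on the level filtration of the roots of type E8 at the central node `3`.
-/

set_option autoImplicit false

namespace Cfsg.Agent.Lib.Chev16

open Cfsg.Lie Cfsg.Agent.Lib.Chev

/-- Words avoiding the node `3` witnessing that a level cannot be held. -/
def lvlWords : ℕ → List (List ℕ)
  | 1 => [[], [1], [2], [4], [1, 2], [1, 4], [2, 0], [2, 4],
      [4, 5], [1, 2, 0], [1, 2, 4], [1, 4, 5], [2, 0, 4], [2, 4, 5], [4, 5, 6], [1, 2, 0, 4],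
      [1, 2, 4, 5], [1, 4, 5, 6], [2, 0, 4, 5], [2, 4, 5, 6], [4, 5, 6, 7], [1, 2, 0, 4, 5], [1, 2, 4, 5, 6], [1, 4, 5, 6, 7],
      [2, 0, 4, 5, 6], [2, 4, 5, 6, 7], [1, 2, 0, 4, 5, 6], [1, 2, 4, 5, 6, 7], [2, 0, 4, 5, 6, 7], [1, 2, 0, 4, 5, 6, 7]]
  | 2 => [[], [2], [4], [2, 4], [4, 5], [2, 4, 5], [4, 5, 6], [2, 4, 5, 6]]
  | 3 => [[], [1], [4], [1, 4], [4, 5], [1, 4, 5]]
  | 4 => [[], [2], [4], [2, 0], [2, 4], [2, 0, 4]]
  | 5 => [[], [1], [2], [1, 2]]
  | 6 => [[], [4], [4, 5], [4, 5, 6], [4, 5, 6, 7]]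
  | _ => []

theorem lvlWords_ok : (List.range 7).all (fun k => (lvlWords k).all fun W => W.all fun i =>
    Nat.blt i 8 && !Nat.beq i 3) = true := by decide +kernel

theorem first_ok : allN 240 (fun r => !decide (coef chevE8 E8.cert 3 r = 1) ||
    (lvlWords 1).any fun W => Nat.beq (perm E8.cert W r) (chevE8.simple 3)) = true := by decide +kernel

theorem deep_ok : (List.range 7).all (fun k => Nat.ble k 1 ||
    allN 240 fun r => !decide (coef chevE8 E8.cert 3 r = (k : ℤ)) ||
      (lvlWords k).any fun W => decide (coef chevE8 E8.cert 3 (refl E8.cert 3 (perm E8.cert W r)) < (k : ℤ))) =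
    true := by decide +kernel

theorem low_ok : allN 240 (fun r => decide (coef chevE8 E8.cert 3 r < 2) ||
    decide (coef chevE8 E8.cert 3 r - 1 ≤ coef chevE8 E8.cert 3 (refl E8.cert 3 r))) = true := by decide +kernel

theorem act_ok : allN 8 (fun j => Nat.beq j 3 || (List.range 240).any fun r =>
    decide (coef chevE8 E8.cert 3 r = 1) && !decide (chevE8.cartan j r = 0)) = true := by decide +kernel

theorem top_ok : allN 240 (fun r => decide (coef chevE8 E8.cert 3 r < 7)) = true := by decide +kernel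

theorem highest_ok : decide (coef chevE8 E8.cert 3 239 = 6) = true := by decide +kernel

end Cfsg.Agent.Lib.Chev16
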