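import Mathlib
import Cfsg.Agent.Lib.ChevFold.Main
import Cfsg.Agent.Lib.ChevFold.E6F4
import Cfsg.Agent.Lib.ChevField.Fixed
import Cfsg.Agent.Lib.Twisted.Generation
import Cfsg.Agent.Lib.Chev.ParabolicFStar
import Cfsg.Prelude.Def_LieTwisted

/-!
`F₄(2)` inside `²E₆(2)`, and the diagonal elements normalising `²E₆`.
-/

set_option autoImplicit false

namespace Cfsg.Agent.Lib.Chev16

open Cfsg.Lie Cfsg.Agent.Lib.Chev Cfsg.Agent.Lib.ChevCent Cfsg.Agent.Lib.ChevFold Cfsg.Agent.Lib.ChevField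

theorem rE6 : Rooted chevE6 E6.cert := Rooted.mk checked_E6 descent_E6

theorem rF4 : Rooted chevF4 F4.cert := Rooted.mk checked_F4 descent_F4

/-- Three times the inverse of the Cartan matrix of `E₆`. -/
def e6InvTab : List (List ℤ) :=
  [[4, 3, 5, 6, 4, 2], [3, 6, 6, 9, 6, 3], [5, 6, 10, 12, 8, 4], [6, 9, 12, 18, 12, 6], [4, 6, 8, 12, 10, 5],
    [2, 3, 4, 6, 5, 4]]

theorem e6_cartanInv : CartanInv chevE6 fun j k => (e6InvTab.getD j []).getD k 0 := by
  have h : ∀ i : Fin 6, ∀ k : Fin 6, ((List.range 6).map fun j =>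
      chevE6.cartan i.val (chevE6.simple j) * (e6InvTab.getD j []).getD k.val 0).sum =
        if i.val = k.val then 3 else 0 := by decide +kernel
  intro i hi k hk
  exact h ⟨i, hi⟩ ⟨k, hk⟩

local notation "okF" => E6F4.foldOK

section Embedding

variable (K : Type*) [Field K] [CharP K 2]

theorem fixed_unique {g g' : GL chevE6.Idx (ZMod 2)} (hg : g ∈ chevE6.group (ZMod 2))
    (hg' : g' ∈ chevE6.group (ZMod 2)) {k : GL chevF4.Idx (ZMod 2)} (h : Rel okF g k) (h' : Rel okF g' k) :
    g = g' := by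
  have hr : Rel okF (g⁻¹ * g') 1 := by
    simpa using rel_mul okF (rel_inv okF h) h'
  obtain ⟨k', -, r', hone⟩ := exists_rel_of_fixed okF rE6 rF4 e6_cartanInv (mul_mem (inv_mem hg) hg') hr.1
  exact inv_mul_eq_one.1 (hone (rel_unique okF r' hr))

/-- The element over an element of `F₄(2)`. -/
noncomputable def lift4 (k : ↥(chevF4.group (ZMod 2))) : GL chevE6.Idx (ZMod 2) :=
  (exists_fixed_of_mem okF rE6 rF4 k.2).choose

theorem lift4_mem (k : ↥(chevF4.group (ZMod 2))) : lift4 k ∈ chevE6.group (ZMod 2) :=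
  (exists_fixed_of_mem okF rE6 rF4 k.2).choose_spec.1

theorem lift4_rel (k : ↥(chevF4.group (ZMod 2))) : Rel okF (lift4 k) (k : GL chevF4.Idx (ZMod 2)) :=
  (exists_fixed_of_mem okF rE6 rF4 k.2).choose_spec.2

/-- The inclusion of the prime field. -/
noncomputable def primeMap : ZMod 2 →+* K := ZMod.castHom dvd_rfl K

/-- `F₄(2)` inside the matrices over `K`. -/
noncomputable def emb4 : ↥(chevF4.group (ZMod 2)) →* GL chevE6.Idx K :=
  (glMap chevE6 (primeMap K)).comp <| MonoidHom.mk' lift4 fun a b =>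
    fixed_unique (lift4_mem _) (mul_mem (lift4_mem a) (lift4_mem b)) (lift4_rel _)
      (rel_mul okF (lift4_rel a) (lift4_rel b))

theorem emb4_apply (k : ↥(chevF4.group (ZMod 2))) : emb4 K k = glMap chevE6 (primeMap K) (lift4 k) := rfl

theorem emb4_injective : Function.Injective (emb4 K) := by
  intro a b e
  have e' : lift4 a = lift4 b := glMap_injective (primeMap K) e
  exact Subtype.ext (rel_unique okF (lift4_rel a) (by rw [e']; exact lift4_rel b))

theorem emb4_mem_group (k : ↥(chevF4.group (ZMod 2))) : emb4 K k ∈ chevE6.group K :=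
  glMap_group_le (primeMap K) (Subgroup.mem_map_of_mem _ (lift4_mem k))

theorem emb4_fixed [ExpChar K 2] (k : ↥(chevF4.group (ZMod 2))) :
    glMap chevE6 (frobenius K 2) (emb4 K k) = emb4 K k := by
  rw [emb4_apply, glMap_glMap, Subsingleton.elim ((frobenius K 2).comp (primeMap K)) (primeMap K)]

theorem emb4_x {r : ℕ} (hr : r < chevF4.nroots) (t : ZMod 2)
    (hm : xGL rF4.toChecked (ZMod 2) hr t ∈ chevF4.group (ZMod 2)) :
    emb4 K ⟨_, hm⟩ = word rE6.toChecked (img chevE6 E6F4.fdata r) fun _ => primeMap K t := by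
  have hL : ∀ a ∈ img chevE6 E6F4.fdata r, a < chevE6.nroots := fun a ha => img_root okF hr ha
  have e : xg rF4.toChecked r t = xGL rF4.toChecked (ZMod 2) hr t := Units.ext (by rw [coe_xg, coe_xGL])
  have e1 : lift4 ⟨_, hm⟩ = xf E6F4.fdata rE6.toChecked r t := by
    refine fixed_unique (lift4_mem _) ?_ (lift4_rel _) ?_
    swap
    · show Rel okF _ (xGL rF4.toChecked (ZMod 2) hr t)
      rw [← e]
      exact rel_xf okF rE6.toChecked rF4.toChecked hr t
    rw [group_eq_rootGen]
    exact word_mem _ (fun a ha => hL a ha) _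
  rw [emb4_apply, e1]
  refine Units.ext ?_
  rw [coe_glMap, xf, coe_word, coe_word, Twisted.wordMat_map, List.map_map]
  rfl

theorem emb4_pos (k : ↥(chevF4.group (ZMod 2))) (hk : (k : GL chevF4.Idx (ZMod 2)) ∈ chevF4.posUnipotent (ZMod 2)) :
    emb4 K k ∈ chevE6.posUnipotent K := by
  obtain ⟨k, hkG⟩ := k
  rw [rF4.toChecked.posUnipotent_eq] at hk
  rw [rE6.toChecked.posUnipotent_eq]
  change k ∈ rootGen chevF4 (ZMod 2) (posSet chevF4) at hk
  induction hk using Subgroup.closure_induction with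
  | mem x hx =>
    obtain ⟨r, t, hr, e⟩ := hx
    obtain rfl : x = xGL rF4.toChecked (ZMod 2) hr.2 t := Units.ext e
    rw [emb4_x K hr.2 t hkG]
    exact word_mem _ (fun a ha => img_pos okF rE6 hr ha) _
  | one =>
    rw [show (⟨1, hkG⟩ : ↥(chevF4.group (ZMod 2))) = 1 from rfl, map_one]
    exact one_mem _
  | mul a b ha hb iha ihb =>
    have ha' : a ∈ chevF4.group (ZMod 2) := rootGen_le_group (fun _ h => h.2) ha
    have hb' : b ∈ chevF4.group (ZMod 2) := rootGen_le_group (fun _ h => h.2) hb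
    rw [show (⟨a * b, hkG⟩ : ↥(chevF4.group (ZMod 2))) = ⟨a, ha'⟩ * ⟨b, hb'⟩ from rfl, map_mul]
    exact mul_mem (iha ha') (ihb hb')
  | inv a ha iha =>
    have ha' : a ∈ chevF4.group (ZMod 2) := rootGen_le_group (fun _ h => h.2) ha
    rw [show (⟨a⁻¹, hkG⟩ : ↥(chevF4.group (ZMod 2))) = (⟨a, ha'⟩)⁻¹ from rfl, map_inv]
    exact inv_mem (iha ha')

/-- The orbits over the fundamental roots and their negatives are those of the twisted generators. -/
theorem img_simple_ok : ([chevF4.simple 0, chevF4.simple 1, chevF4.simple 2, chevF4.simple 3,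
      ng chevF4 (chevF4.simple 0), ng chevF4 (chevF4.simple 1), ng chevF4 (chevF4.simple 2),
      ng chevF4 (chevF4.simple 3)].all fun r =>
    match img chevE6 E6F4.fdata r with
    | [a] => [e6p2, e6m2, e6p4, e6m4].contains a
    | [a, b] => [(e6p1, e6p6), (e6m1, e6m6), (e6p3, e6p5), (e6m3, e6m5)].contains (b, a) ||
        [(e6p1, e6p6), (e6m1, e6m6), (e6p3, e6p5), (e6m3, e6m5)].contains (a, b)
    | _ => false) = true := by decide +kernel

theorem emb4_mem_twisted (k : ↥(chevF4.group (ZMod 2))) : emb4 K k ∈ twistedE6 K 2 := by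
  have hle := Twisted.group_le_closure_simple rF4 (F := ZMod 2)
  suffices H : chevF4.group (ZMod 2) ≤ ((twistedE6 K 2).comap (emb4 K)).map (chevF4.group (ZMod 2)).subtype by
    obtain ⟨k', hk', e⟩ := H k.2
    rw [← show k' = k from Subtype.ext e]
    exact hk'
  refine le_trans hle ((Subgroup.closure_le _).2 ?_)
  rintro x ⟨r, ⟨i, hi, hri⟩, t, e⟩
  have hs := rF4.toChecked.simple_lt hi
  rw [rF4.toChecked.neg_eq hs] at hri
  have hr : r < chevF4.nroots := by
    rcases hri with rfl | rfl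
    exacts [hs, Checked.ng_lt hs]
  obtain rfl : x = xGL rF4.toChecked (ZMod 2) hr t := Units.ext e
  refine ⟨⟨_, rF4.toChecked.xGL_mem_group hr t⟩, ?_, rfl⟩
  show emb4 K _ ∈ twistedE6 K 2
  rw [emb4_x K hr t]
  set s := primeMap K t with hs'
  have hs2 : s ^ 2 = s := by
    have h2 : ∀ u : ZMod 2, u ^ 2 = u := by decide
    rw [hs', ← map_pow, h2]
  have hmem : r ∈ [chevF4.simple 0, chevF4.simple 1, chevF4.simple 2, chevF4.simple 3,
      ng chevF4 (chevF4.simple 0), ng chevF4 (chevF4.simple 1), ng chevF4 (chevF4.simple 2),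
      ng chevF4 (chevF4.simple 3)] := by
    have h4 : i < 4 := hi
    interval_cases i <;> rcases hri with rfl | rfl <;> simp
  have hok := List.all_eq_true.1 img_simple_ok r hmem
  rcases himg : img chevE6 E6F4.fdata r with _ | ⟨a, _ | ⟨b, _ | ⟨c, L⟩⟩⟩ <;> rw [himg] at hok
  · simp at hok
  · refine Subgroup.subset_closure ⟨[(a, s)], Or.inl ⟨s, hs2, a, by simpa using hok, rfl⟩, ?_⟩
    rw [coe_word]
    rfl
  · simp only [Bool.or_eq_true, List.contains_iff_mem] at hok
    have ha : a ∈ img chevE6 E6F4.fdata r := by simp [himg]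
    have hb : b ∈ img chevE6 E6F4.fdata r := by simp [himg]
    have hc := img_commute okF rE6.toChecked (F := K) hr ha hb s s
    rcases hok with hok | hok
    · refine Subgroup.subset_closure ⟨[(b, s), (a, s ^ 2)], Or.inr ⟨s, (b, a), hok, rfl⟩, ?_⟩
      rw [hs2, show word rE6.toChecked [a, b] (fun _ => s) = word rE6.toChecked [b, a] (fun _ => s) from by
        simp only [word_cons, word_nil, mul_one]; exact hc.eq, coe_word]
      rfl
    · refine Subgroup.subset_closure ⟨[(a, s), (b, s ^ 2)], Or.inr ⟨s, (a, b), hok, rfl⟩, ?_⟩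
      rw [hs2, coe_word]
      rfl
  · simp at hok

end Embedding

section Diagonal

variable {K : Type*} [Field K]

/-- The diagonal matrices of the characters of the root lattice. -/
noncomputable def dgl (c : ℕ → Kˣ) : GL chevE6.Idx K := diagGL chevE6 (chiOf chevE6 E6.cert c)

theorem dgl_mul (c c' : ℕ → Kˣ) : dgl (c * c') = dgl c * dgl c' := by
  rw [dgl, dgl, dgl, diagGL_mul]
  congr 1
  funext r
  simp only [chiOf, ← Finset.prod_mul_distrib, Pi.mul_apply, mul_zpow]

theorem dgl_one : dgl (1 : ℕ → Kˣ) = 1 := by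
  have := dgl_mul (1 : ℕ → Kˣ) 1
  rw [mul_one] at this
  exact left_eq_mul.1 this

/-- `dgl` as a homomorphism. -/
noncomputable def dglHom : (ℕ → Kˣ) →* GL chevE6.Idx K where
  toFun := dgl
  map_one' := dgl_one
  map_mul' := dgl_mul

theorem dgl_conj_x (c : ℕ → Kˣ) {r : ℕ} (hr : r < chevE6.nroots) (t : K) :
    dgl c * xGL rE6.toChecked K hr t * (dgl c)⁻¹ =
      xGL rE6.toChecked K hr ((chiOf chevE6 E6.cert c r : K) * t) := by
  rw [mul_inv_eq_iff_eq_mul]
  refine Units.ext ?_
  rw [Units.val_mul, Units.val_mul, coe_xGL, coe_xGL, dgl, coe_diagGL]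
  exact rE6.toChecked.charDiag_mul_x c hr t

theorem dgl_conj_group (c : ℕ → Kˣ) {g : GL chevE6.Idx K} (hg : g ∈ chevE6.group K) :
    dgl c * g * (dgl c)⁻¹ ∈ chevE6.group K := by
  rw [group_eq_rootGen] at hg
  induction hg using Subgroup.closure_induction with
  | mem x hx =>
    obtain ⟨r, t, hr, e⟩ := hx
    obtain rfl : x = xGL rE6.toChecked K hr t := Units.ext e
    rw [dgl_conj_x c hr]
    exact rE6.toChecked.xGL_mem_group _ _
  | one => simp
  | mul a b _ _ ha hb => have := mul_mem ha hb; simpa [mul_assoc] using this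
  | inv a _ ha => have := inv_mem ha; simpa [mul_assoc] using this

theorem twisted_le_group (q : ℕ) : twistedE6 K q ≤ chevE6.group K := by
  refine (Subgroup.closure_le _).2 ?_
  rintro g ⟨w, hw, e⟩
  have hlt : ∀ x ∈ w, x.1 < chevE6.nroots := by
    have hsmall : ∀ r ∈ [e6p2, e6m2, e6p4, e6m4, e6p1, e6p6, e6m1, e6m6, e6p3, e6p5, e6m3, e6m5],
        r < chevE6.nroots := by decide +kernel
    intro x hx
    rcases hw with ⟨t, -, r, hr, rfl⟩ | ⟨t, rs, hrs, rfl⟩
    · simp only [List.mem_singleton] at hx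
      subst hx
      refine hsmall _ ?_
      simp only [List.mem_cons, List.not_mem_nil, or_false] at hr ⊢
      tauto
    · simp only [List.mem_cons, List.not_mem_nil, or_false] at hrs hx
      refine hsmall _ ?_
      rcases hrs with rfl | rfl | rfl | rfl <;> rcases hx with rfl | rfl <;> simp
  obtain ⟨g', hg', e'⟩ := rE6.toChecked.exists_wordGL (F := K) (S := {r | r < chevE6.nroots}) (fun r hr => hr) w
    (fun x hx => hlt x hx)
  rw [show g = g' from Units.ext (e.trans e'.symm), group_eq_rootGen]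
  exact hg'

/-- The diagonal element of order three outside the group. -/
def outExp (j : ℕ) : ℕ := if j = 0 then 1 else if j = 5 then 2 else 0

theorem chi_out_ok : ([(e6p2, 0), (e6m2, 0), (e6p4, 0), (e6m4, 0), (e6p3, 0), (e6p5, 0), (e6m3, 0), (e6m5, 0),
      (e6p1, 1), (e6p6, 2), (e6m1, -1), (e6m6, -2)].all fun x : ℕ × ℤ =>
    decide (coef chevE6 E6.cert 0 x.1 + 2 * coef chevE6 E6.cert 5 x.1 = x.2)) = true := by decide +kernel

theorem chi_out (ω : Kˣ) (r : ℕ) :
    chiOf chevE6 E6.cert (fun j => ω ^ outExp j) r =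
      ω ^ (coef chevE6 E6.cert 0 r + 2 * coef chevE6 E6.cert 5 r) := by
  simp only [chiOf, show chevE6.rank = 6 from rfl, Finset.prod_range_succ, Finset.prod_range_zero, one_mul,
    outExp]
  simp only [Nat.reduceEqDiff, if_true, if_false, pow_zero, one_zpow, mul_one, ← zpow_natCast, ← zpow_mul,
    ← zpow_add]
  norm_num

theorem dgl_conj_twisted (ω : Kˣ) (hω : ω ^ 3 = 1) {g : GL chevE6.Idx K} (hg : g ∈ twistedE6 K 2) :
    dgl (fun j => ω ^ outExp j) * g * (dgl (fun j => ω ^ outExp j))⁻¹ ∈ twistedE6 K 2 := by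
  set d := dgl (fun j => ω ^ outExp j) with hd
  have h := rE6.toChecked
  have hχ : ∀ x ∈ [(e6p2, (0 : ℤ)), (e6m2, 0), (e6p4, 0), (e6m4, 0), (e6p3, 0), (e6p5, 0), (e6m3, 0), (e6m5, 0),
      (e6p1, 1), (e6p6, 2), (e6m1, -1), (e6m6, -2)],
      chiOf chevE6 E6.cert (fun j => ω ^ outExp j) x.1 = ω ^ x.2 := by
    intro x hx
    rw [chi_out, of_decide_eq_true (List.all_eq_true.1 chi_out_ok x hx)]
  induction hg using Subgroup.closure_induction with
  | mem x hx =>
    obtain ⟨w, hw, e⟩ := hx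
    rcases hw with ⟨t, ht, r, hr, rfl⟩ | ⟨t, rs, hrs, rfl⟩
    · have hx0 : (r, (0 : ℤ)) ∈ [(e6p2, (0 : ℤ)), (e6m2, 0), (e6p4, 0), (e6m4, 0), (e6p3, 0), (e6p5, 0), (e6m3, 0),
          (e6m5, 0), (e6p1, 1), (e6p6, 2), (e6m1, -1), (e6m6, -2)] := by
        simp only [List.mem_cons, List.not_mem_nil, or_false] at hr
        rcases hr with rfl | rfl | rfl | rfl <;> simp
      have hlt : r < chevE6.nroots := by
        simp only [List.mem_cons, List.not_mem_nil, or_false] at hr
        rcases hr with rfl | rfl | rfl | rfl <;> decide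
      obtain rfl : x = xGL h K hlt t := Units.ext (by rw [e, coe_xGL]; simp [ChevalleyDatum.wordMat])
      rw [hd, dgl_conj_x _ hlt, hχ _ hx0, zpow_zero, Units.val_one, one_mul]
      exact Subgroup.subset_closure ⟨[(r, t)], Or.inl ⟨t, ht, r, hr, rfl⟩, e⟩
    · have key : ∀ a b : ℕ, ∀ m : ℤ, (a, b) = rs → a < chevE6.nroots → b < chevE6.nroots →
          chiOf chevE6 E6.cert (fun j => ω ^ outExp j) a = ω ^ m →
          chiOf chevE6 E6.cert (fun j => ω ^ outExp j) b = ω ^ (2 * m) → d * x * d⁻¹ ∈ twistedE6 K 2 := by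
        intro a b m hab ha hb ea eb
        subst hab
        have ex : x = xGL h K ha t * xGL h K hb (t ^ 2) :=
          Units.ext (by rw [e, Units.val_mul, coe_xGL, coe_xGL]; simp [ChevalleyDatum.wordMat])
        rw [ex, show d * (xGL h K ha t * xGL h K hb (t ^ 2)) * d⁻¹ =
          (d * xGL h K ha t * d⁻¹) * (d * xGL h K hb (t ^ 2) * d⁻¹) by group, hd, dgl_conj_x _ ha, dgl_conj_x _ hb,
          ea, eb]
        refine Subgroup.subset_closure ⟨[(a, ((ω ^ m : Kˣ) : K) * t), (b, (((ω ^ m : Kˣ) : K) * t) ^ 2)],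
          Or.inr ⟨((ω ^ m : Kˣ) : K) * t, (a, b), hrs, rfl⟩, ?_⟩
        rw [Units.val_mul, coe_xGL, coe_xGL, mul_pow, ← Units.val_pow_eq_pow_val, ← zpow_natCast (ω ^ m) 2,
          ← zpow_mul, mul_comm m]
        simp [ChevalleyDatum.wordMat]
      simp only [List.mem_cons, List.not_mem_nil, or_false] at hrs
      have z0 : ω ^ (0 : ℤ) = ω ^ (2 * 0 : ℤ) := by simp
      rcases hrs with rfl | rfl | rfl | rfl
      · exact key _ _ 1 rfl (by decide) (by decide) (hχ (e6p1, 1) (by simp)) ((hχ (e6p6, 2) (by simp)).trans (by norm_num))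
      · exact key _ _ (-1) rfl (by decide) (by decide) (hχ (e6m1, -1) (by simp)) ((hχ (e6m6, -2) (by simp)).trans (by norm_num))
      · exact key _ _ 0 rfl (by decide) (by decide) (hχ (e6p3, 0) (by simp)) ((hχ (e6p5, 0) (by simp)).trans z0)
      · exact key _ _ 0 rfl (by decide) (by decide) (hχ (e6m3, 0) (by simp)) ((hχ (e6m5, 0) (by simp)).trans z0)
  | one => simp
  | mul a b _ _ ha hb => have := mul_mem ha hb; simpa [mul_assoc] using this
  | inv a _ ha => have := inv_mem ha; simpa [mul_assoc] using this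

end Diagonal

end Cfsg.Agent.Lib.Chev16
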