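import Cfsg.Agent.Lib.Chev16.F4InE6
import Cfsg.Agent.Lib.Chev.WeakClosure
import Cfsg.Agent.Lib.Chev.Steinberg

/-!
A diagonal element times an element of `E₆(4)` normalising `F₄(2)` is inner.
-/

set_option autoImplicit false

namespace Cfsg.Agent.Lib.Chev16

open Cfsg.Lie Cfsg.Agent.Lib.Chev Cfsg.Agent.Lib.ChevCent Cfsg.Agent.Lib.ChevFold Cfsg.Agent.Lib.ChevField

variable {K : Type*} [Field K]

/-- A word through `α` leaves the group of the other positive roots. -/
theorem eq_zero_of_word_mem {i : ℕ} (hi : i < chevE6.rank) {L : List ℕ} (hL : L.Nodup)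
    (hpos : ∀ a ∈ L, a ∈ posSet chevE6) (hm : chevE6.simple i ∈ L) {f : ℕ → K}
    (h : word rE6.toChecked L f ∈ rootGen chevE6 K (posSet chevE6 \ {chevE6.simple i})) : f (chevE6.simple i) = 0 := by
  obtain ⟨L1, L2, rfl⟩ := List.append_of_mem hm
  rw [List.nodup_append, List.nodup_cons] at hL
  obtain ⟨-, ⟨h2, -⟩, h1⟩ := hL
  rw [word_append, word_cons] at h
  set N := rootGen chevE6 K (posSet chevE6 \ {chevE6.simple i})
  have hw1 : word rE6.toChecked L1 f ∈ N := word_mem (S := posSet chevE6 \ {chevE6.simple i}) _ (fun a ha =>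
    ⟨hpos a (List.mem_append_left _ ha), fun e => h1 _ ha _ List.mem_cons_self e⟩) _
  have hw2 : word rE6.toChecked L2 f ∈ N := word_mem (S := posSet chevE6 \ {chevE6.simple i}) _ (fun a ha =>
    ⟨hpos a (List.mem_append_right _ (List.mem_cons_of_mem _ ha)), fun e => h2 ((show a = chevE6.simple i from e) ▸ ha)⟩) _
  have hx : xg rE6.toChecked (chevE6.simple i) (f (chevE6.simple i)) ∈ N := by
    have := mul_mem (mul_mem (inv_mem hw1) h) (inv_mem hw2)
    simpa [mul_assoc] using this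
  by_contra hne
  have hs := rE6.toChecked.simple_lt hi
  have hp : chevE6.simple i ∈ posSet chevE6 := ⟨(rE6.toChecked.simple_spec hi).2, hs⟩
  rw [show xg rE6.toChecked (chevE6.simple i) (f (chevE6.simple i)) = xGL rE6.toChecked K hs (f (chevE6.simple i))
    from Units.ext (by rw [coe_xg, coe_xGL])] at hx
  refine (rE6.mem_of_x_mem_rootGen Set.sdiff_subset ?_ hp hne hx).2 rfl
  intro r hr s hs' _ _ c hc
  obtain ⟨a, b, _⟩ := rE6.toChecked.cTerms_pos hr.1 hs'.1 hc
  refine ⟨a, fun e' => ?_⟩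
  rw [Set.mem_singleton_iff] at e'
  obtain ⟨hlt, hi', hj, hφ⟩ := rE6.toChecked.cTerms_spec hr.1.2 hs'.1.2 c hc
  have e3 := hφ _ rE6.toChecked.isAdd_ht
  rw [e', rE6.toChecked.simple_ht hi] at e3
  have h1' := rE6.toChecked.ht_pos hr.1.2 hr.1.1
  have h2' := rE6.toChecked.ht_pos hs'.1.2 hs'.1.1
  have hi'' : (1 : ℤ) ≤ c.2.2.1 := by exact_mod_cast hi'
  have hj' : (1 : ℤ) ≤ c.2.2.2 := by exact_mod_cast hj
  nlinarith

theorem borel_normalizes_sdiff {i : ℕ} (hi : i < chevE6.rank) :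
    chevE6.borelSubgroup K ≤
      Subgroup.normalizer (rootGen chevE6 K (posSet chevE6 \ {chevE6.simple i}) : Set (GL chevE6.Idx K)) := by
  refine rE6.borel_le_normalizer_of_up Set.sdiff_subset fun r hr a ha c hc => ?_
  have h1 := rE6.higher_of_cTerms hr ha.1 (le_refl (ht chevE6 E6.cert a)) hc
  refine ⟨h1.1, fun e => ?_⟩
  rw [Set.mem_singleton_iff] at e
  have h2 := h1.2
  rw [e, rE6.toChecked.simple_ht hi] at h2
  have := rE6.toChecked.ht_pos ha.1.2 ha.1.1
  omega

/-- Conjugation of a word by a diagonal element. -/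
theorem dgl_conj_word (c : ℕ → Kˣ) : ∀ (L : List ℕ), (∀ a ∈ L, a < chevE6.nroots) → ∀ f : ℕ → K,
    dgl c * word rE6.toChecked L f * (dgl c)⁻¹ =
      word rE6.toChecked L fun a => (chiOf chevE6 E6.cert c a : K) * f a
  | [], _, f => by simp [word_nil]
  | a :: L, hL, f => by
    have hx : ∀ s : K, xg rE6.toChecked a s = xGL rE6.toChecked K (hL a List.mem_cons_self) s :=
      fun s => Units.ext (by rw [coe_xg, coe_xGL])
    rw [word_cons, word_cons, hx, hx, ← dgl_conj_x c (hL a List.mem_cons_self),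
      ← dgl_conj_word c L (fun x hx' => hL x (List.mem_cons_of_mem _ hx')) f]
    group

variable [Finite K] [CharP K 2]

theorem outer_normalizer (c : ℕ → Kˣ) {g : GL chevE6.Idx K} (hg : g ∈ chevE6.group K)
    (hx : (emb4 K).range.map (MulAut.conj (dgl c * g)).toMonoidHom = (emb4 K).range) :
    ∃ c' : ℕ → Kˣ, ∀ i < chevE6.rank, torusFun chevE6 c' (chevE6.simple i) = c i := by
  haveI : Fact (Nat.Prime 2) := ⟨Nat.prime_two⟩
  haveI : ExpChar K 2 := .prime Nat.prime_two
  have h := rE6.toChecked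
  set d := dgl c with hd
  obtain ⟨P0, hP0⟩ := rF4.exists_sylow_posUnipotent (F := ZMod 2) 2
  set T : Subgroup (GL chevE6.Idx K) := (P0 : Subgroup ↥(chevF4.group (ZMod 2))).map (emb4 K) with hT
  set P1 : Subgroup ↥(chevF4.group (ZMod 2)) := (T.map (MulAut.conj (d * g)).toMonoidHom).comap (emb4 K) with hP1
  have hTle : T.map (MulAut.conj (d * g)).toMonoidHom ≤ (emb4 K).range := by
    rw [← hx]
    exact Subgroup.map_mono (Subgroup.map_le_range _ _)
  have hcard : Nat.card ↥P1 = Nat.card ↥(P0 : Subgroup ↥(chevF4.group (ZMod 2))) := by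
    rw [Nat.card_congr (P1.equivMapOfInjective (emb4 K) (emb4_injective K)).toEquiv,
      hP1, Subgroup.map_comap_eq_self hTle,
      ← Nat.card_congr (T.equivMapOfInjective _ (MulAut.conj (d * g)).injective).toEquiv, hT,
      ← Nat.card_congr ((P0 : Subgroup ↥(chevF4.group (ZMod 2))).equivMapOfInjective (emb4 K) (emb4_injective K)).toEquiv]
  obtain ⟨k, hk⟩ := MulAction.exists_smul_eq ↥(chevF4.group (ZMod 2))
    (Sylow.ofCard P1 (hcard.trans P0.card_eq_multiplicity)) P0
  set g3 := emb4 K k * (d * g * d⁻¹) with hg3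
  have hg3G : g3 ∈ chevE6.group K := mul_mem (emb4_mem_group K k) (dgl_conj_group c hg)
  -- conjugates of the root elements of `F₄(2)` are again `2`-elements of `U` fixed by the Frobenius map
  have hT2 : ∀ u ∈ T, (g3 * d) * u * (g3 * d)⁻¹ ∈ T := by
    intro u hu
    have h1 : (d * g) * u * (d * g)⁻¹ ∈ T.map (MulAut.conj (d * g)).toMonoidHom := ⟨u, hu, rfl⟩
    obtain ⟨a, ha⟩ := hTle h1
    have haP : a ∈ P1 := by rw [hP1, Subgroup.mem_comap, ha]; exact h1
    have hk' : k * a * k⁻¹ ∈ (P0 : Subgroup ↥(chevF4.group (ZMod 2))) := by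
      rw [← hk, Sylow.coe_subgroup_smul, Subgroup.mem_smul_pointwise_iff_exists]
      exact ⟨a, haP, rfl⟩
    refine ⟨k * a * k⁻¹, hk', ?_⟩
    rw [map_mul, map_mul, map_inv, ha, hg3]
    group
  have hTU : ∀ u ∈ T, u ∈ chevE6.posUnipotent K ∧ glMap chevE6 (frobenius K 2) u = u := by
    rintro _ ⟨a, ha, rfl⟩
    refine ⟨emb4_pos K a ?_, emb4_fixed K a⟩
    rw [hP0] at ha
    exact ha
  have hu : ∀ i, ∀ hi : i < chevE6.rank, ∃ L : List ℕ, L.Nodup ∧ (∀ a ∈ L, a ∈ posSet chevE6) ∧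
      chevE6.simple i ∈ L ∧ word rE6.toChecked L (fun _ => (1 : K)) ∈ T := by
    intro i hi
    obtain ⟨hn, -, -, -, horb, -⟩ := node_spec E6F4.foldOK hi
    set j := nodeOf chevE6 chevF4 E6F4.fdata i
    have hj : j < chevF4.rank := nodeOf_lt E6F4.foldOK hi
    have hjp : chevF4.simple j ∈ posSet chevF4 := ⟨(rF4.toChecked.simple_spec hj).2, rF4.toChecked.simple_lt hj⟩
    refine ⟨img chevE6 E6F4.fdata (chevF4.simple j), (List.nodup_range).filter _,
      fun a ha => img_pos E6F4.foldOK rE6 hjp ha, mem_img.2 ⟨?_, horb⟩, ?_⟩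
    · exact lt_of_lt_of_le (h.simple_lt hi) (Nat.le_add_right _ _)
    · refine ⟨⟨_, rF4.toChecked.xGL_mem_group hjp.2 1⟩, ?_, ?_⟩
      · rw [SetLike.mem_coe, hP0, Subgroup.mem_subgroupOf]
        exact rF4.toChecked.xGL_mem_pos hjp.2 hjp.1 _
      · rw [emb4_x K hjp.2, map_one]
  -- the element lies in `B`
  have hg3B : g3 ∈ chevE6.borelSubgroup K := by
    obtain ⟨w, hw⟩ := rE6.exists_bcell hg3G
    by_cases hall : ∀ i < chevE6.rank, Asc w i
    · have := rE6.eq_one_of_all_asc (bcell_mem_weyl hw) hall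
      exact rE6.mem_bcell_one.1 (this ▸ hw)
    exfalso
    simp only [not_forall] at hall
    obtain ⟨i, hi, hdesc⟩ := hall
    obtain ⟨L, hL, rfl⟩ := h.exists_word_of_weyl (bcell_mem_weyl hw)
    obtain ⟨b, hb, q, hq, eg⟩ := rE6.exists_of_mem_bcell hL hw
    obtain ⟨Lu, hnd, hpos, hα, huT⟩ := hu i hi
    set u := word rE6.toChecked Lu (fun _ => (1 : K)) with hu'
    have hdu : d * u * d⁻¹ ∈ chevE6.posUnipotent K := by
      rw [hd, hu', dgl_conj_word c Lu (fun a ha => (hpos a ha).2), h.posUnipotent_eq]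
      exact word_mem _ hpos _
    have hUn := rE6.borel_le_normalizer_of_up (F := K) (subset_refl (posSet chevE6))
      fun r hr a ha e he => (h.cTerms_pos hr ha he).1
    set v := q * (d * u * d⁻¹) * q⁻¹ with hv
    have hvU : v ∈ rootGen chevE6 K (posSet chevE6) := by
      rw [h.posUnipotent_eq] at hdu
      exact (Subgroup.mem_normalizer_iff.1 (hUn hq) _).1 hdu
    have hnv : nProd h K L * v * (nProd h K L)⁻¹ ∈ chevE6.borelSubgroup K := by
      have h1 : g3 * d * u * (g3 * d)⁻¹ ∈ chevE6.borelSubgroup K :=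
        Subgroup.mem_sup_left (hTU _ (hT2 _ huT)).1
      have := mul_mem (mul_mem (inv_mem hb) h1) hb
      rw [eg] at this
      convert this using 1
      rw [hv]
      group
    obtain ⟨a, ha, a', ha', ev⟩ := h.exists_split (invSet chevE6 E6.cert L)
      (show v ∈ chevE6.posUnipotent K by rw [h.posUnipotent_eq]; exact hvU)
    have ha'' : a' = 1 := by
      have h1 : nProd h K L * a' * (nProd h K L)⁻¹ ∈ chevE6.borelSubgroup K := by
        have e2 : nProd h K L * a' * (nProd h K L)⁻¹ =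
            (nProd h K L * a * (nProd h K L)⁻¹)⁻¹ * (nProd h K L * v * (nProd h K L)⁻¹) := by
          rw [ev]; group
        rw [e2]
        exact mul_mem (inv_mem (Subgroup.mem_sup_left (h.conj_posSet_sdiff_le hL ha))) hnv
      have h2 : nProd h K L * a' * (nProd h K L)⁻¹ ∈ chevE6.negUnipotent K :=
        h.conj_invSet_le hL (rootGen_mono Set.inter_subset_right ha')
      exact conj_eq_one_iff.1 (Subgroup.mem_bot.1 (rE6.borel_inf_negUnipotent.le (Subgroup.mem_inf.2 ⟨h1, h2⟩)))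
    rw [ha'', mul_one] at ev
    have hinv : chevE6.simple i ∈ invSet chevE6 E6.cert L := by
      refine ⟨⟨(h.simple_spec hi).2, h.simple_lt hi⟩, ?_⟩
      have := mt (h.asc_iff hi).2 hdesc
      rw [h.wperm_val hL] at this
      exact not_le.1 this
    have hvN : v ∈ rootGen chevE6 K (posSet chevE6 \ {chevE6.simple i}) := by
      rw [ev]
      refine rootGen_mono ?_ ha
      exact fun r hr => ⟨hr.1, fun e => hr.2 ((show r = chevE6.simple i from e) ▸ hinv)⟩
    have h3 := (Subgroup.mem_normalizer_iff.1 (borel_normalizes_sdiff (K := K) hi hq) _).2 hvN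
    rw [hd, hu', dgl_conj_word c Lu (fun a ha => (hpos a ha).2)] at h3
    simpa using eq_zero_of_word_mem hi hnd hpos hα h3
  obtain ⟨v, hv, t, ht, et⟩ := rE6.mem_borel_iff.1 hg3B
  rw [rE6.diagonalSubgroup_eq] at ht
  obtain ⟨c', rfl⟩ := ht
  refine ⟨c'⁻¹, fun i hi => ?_⟩
  obtain ⟨Lu, hnd, hpos, hα, huT⟩ := hu i hi
  set α := chevE6.simple i with hαdef
  set N := rootGen chevE6 K (posSet chevE6 \ {α}) with hN
  set s : K := (torusFun chevE6 c' α : K) * ((chiOf chevE6 E6.cert c α : Kˣ) : K) with hs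
  have hαp : α ∈ posSet chevE6 := ⟨(h.simple_spec hi).2, h.simple_lt hi⟩
  set y := g3 * d * word rE6.toChecked Lu (fun _ => (1 : K)) * (g3 * d)⁻¹ with hy
  -- `y` is congruent to a root element
  have hcong : (xGL h K hαp.2 s)⁻¹ * y ∈ N := by
    obtain ⟨L1, L2, eL⟩ := List.append_of_mem hα
    rw [eL, List.nodup_append, List.nodup_cons] at hnd
    obtain ⟨-, ⟨h2, -⟩, h1⟩ := hnd
    set f : ℕ → K := fun a => (chiOf chevE6 E6.cert c a : K) with hf
    set tt := torusHom chevE6 K c'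
    have hw1 : word rE6.toChecked L1 f ∈ N := word_mem (S := posSet chevE6 \ {α}) _ (fun a ha =>
      ⟨hpos a (by rw [eL]; exact List.mem_append_left _ ha), fun e => h1 _ ha _ List.mem_cons_self e⟩) _
    have hw2 : word rE6.toChecked L2 f ∈ N := word_mem (S := posSet chevE6 \ {α}) _ (fun a ha =>
      ⟨hpos a (by rw [eL]; exact List.mem_append_right _ (List.mem_cons_of_mem _ ha)),
        fun e => h2 ((show a = α from e) ▸ ha)⟩) _
    have hconj : ∀ b ∈ chevE6.borelSubgroup K, ∀ n ∈ N, b * n * b⁻¹ ∈ N := fun b hb n hn =>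
      (Subgroup.mem_normalizer_iff.1 (borel_normalizes_sdiff (K := K) hi hb) n).1 hn
    have htB : tt ∈ chevE6.borelSubgroup K :=
      Subgroup.mem_sup_right (by rw [rE6.diagonalSubgroup_eq]; exact ⟨c', rfl⟩)
    have hvB : v ∈ chevE6.borelSubgroup K := Subgroup.mem_sup_left hv
    set n1 := v * (tt * word rE6.toChecked L1 f * tt⁻¹) * v⁻¹
    set n2 := v * (tt * word rE6.toChecked L2 f * tt⁻¹) * v⁻¹
    set n0 := v * xGL h K hαp.2 s * v⁻¹ * (xGL h K hαp.2 s)⁻¹
    have hn1 : n1 ∈ N := hconj _ hvB _ (hconj _ htB _ hw1)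
    have hn2 : n2 ∈ N := hconj _ hvB _ (hconj _ htB _ hw2)
    have hn0 : n0 ∈ N := rootGen_mono (S := higherSet chevE6 E6.cert α) (T := posSet chevE6 \ {α})
      (fun r hr => ⟨hr.1, fun e => lt_irrefl (ht chevE6 E6.cert α)
      ((show r = α from e) ▸ hr.2)⟩) (rE6.comm_mem_higher hαp hv s)
    have etx : tt * xg rE6.toChecked α (f α) * tt⁻¹ = xGL h K hαp.2 s := by
      rw [show xg rE6.toChecked α (f α) = xGL h K hαp.2 (f α) from Units.ext (by rw [coe_xg, coe_xGL]),
        h.conj_x hαp.2]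
    have ey : y = n1 * (n0 * xGL h K hαp.2 s) * n2 := by
      rw [hy, et, show v * tt * d * word rE6.toChecked Lu (fun _ => (1 : K)) * (v * tt * d)⁻¹ =
          v * (tt * (d * word rE6.toChecked Lu (fun _ => (1 : K)) * d⁻¹) * tt⁻¹) * v⁻¹ by group,
        hd, dgl_conj_word c Lu (fun a ha => (hpos a ha).2), eL, word_append, word_cons]
      simp only [n0, n1, n2, ← etx, mul_one]
      simp only [hf]
      group
    have e2 : (xGL h K hαp.2 s)⁻¹ * y =
        ((xGL h K hαp.2 s)⁻¹ * (n1 * n0) * (xGL h K hαp.2 s)⁻¹⁻¹) * n2 := by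
      rw [ey]; group
    rw [e2]
    exact mul_mem (hconj _ (inv_mem (Subgroup.mem_sup_left (h.xGL_mem_pos hαp.2 hαp.1 _))) _ (mul_mem hn1 hn0)) hn2
  have hfix : glMap chevE6 (frobenius K 2) y = y := (hTU _ (hT2 _ huT)).2
  have h4 := glMap_rootGen (frobenius K 2) hcong
  rw [map_mul, map_inv, glMap_xGL, hfix] at h4
  have h5 := mul_mem hcong (inv_mem h4)
  rw [show (xGL h K hαp.2 s)⁻¹ * y * ((xGL h K hαp.2 (frobenius K 2 s))⁻¹ * y)⁻¹ =
    (xGL h K hαp.2 s)⁻¹ * xGL h K hαp.2 (frobenius K 2 s) by group, h.xGL_inv, h.xGL_add] at h5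
  have h6 : -s + frobenius K 2 s = 0 := by
    have := eq_zero_of_word_mem (K := K) (L := [α]) (f := fun _ => -s + frobenius K 2 s) hi (List.nodup_singleton _)
      (by simpa using hαp) (List.mem_singleton.2 rfl) (by
        rw [word_cons, word_nil, mul_one,
          show xg rE6.toChecked α (-s + frobenius K 2 s) = xGL h K hαp.2 (-s + frobenius K 2 s) from
            Units.ext (by rw [coe_xg, coe_xGL])]
        exact h5)
    exact this
  rw [frobenius_def, neg_add_eq_zero] at h6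
  have hs1 : torusFun chevE6 c' α * chiOf chevE6 E6.cert c α = 1 := by
    have hsu : ((torusFun chevE6 c' α * chiOf chevE6 E6.cert c α : Kˣ) : K) = s := by rw [Units.val_mul]
    have : (torusFun chevE6 c' α * chiOf chevE6 E6.cert c α) ^ 2 = torusFun chevE6 c' α * chiOf chevE6 E6.cert c α :=
      Units.ext (by rw [Units.val_pow_eq_pow_val, hsu, ← h6])
    rwa [sq, mul_eq_left] at this
  have hci : chiOf chevE6 E6.cert c α = c i := by
    rw [chiOf, Finset.prod_eq_single i]
    · rw [(h.simple_tab hi hi).2.1, if_pos rfl, zpow_one]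
    · intro j hj hne
      rw [(h.simple_tab hi (Finset.mem_range.1 hj)).2.1, if_neg (Ne.symm hne), zpow_zero]
    · intro hn; exact absurd (Finset.mem_range.2 hi) hn
  rw [hci] at hs1
  have : torusFun chevE6 c'⁻¹ α = (torusFun chevE6 c' α)⁻¹ := by
    simp [torusFun, Finset.prod_inv_distrib]
  rw [this]
  exact (eq_inv_of_mul_eq_one_right hs1).symm

omit [Finite K] [CharP K 2] in
theorem no_inner_out [Fintype K] (hK : Fintype.card K = 4) (ω : Kˣ) {m : ℕ} {c' : ℕ → Kˣ}
    (h : ∀ i < chevE6.rank, torusFun chevE6 c' (chevE6.simple i) = (ω ^ outExp i) ^ m) : ω ^ m = 1 := by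
  have hexp : ∀ u : Kˣ, u ^ 3 = 1 := by
    intro u
    classical
    have := pow_card_eq_one (G := Kˣ) (x := u)
    rwa [Fintype.card_units, hK] at this
  let v : ℕ → ℤ := fun a => ([1, 0, -1, 0, 1, -1] : List ℤ).getD a 0
  have hdiv : ∀ i : Fin 6, (3 : ℤ) ∣ ((List.range 6).map fun a => v a * chevE6.cartan i.val (chevE6.simple a)).sum := by
    decide +kernel
  have h1 : ∏ a ∈ Finset.range 6, torusFun chevE6 c' (chevE6.simple a) ^ v a = 1 := by
    simp only [torusFun, ← Finset.prod_zpow, ← zpow_mul]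
    rw [Finset.prod_comm]
    refine Finset.prod_eq_one fun i hi => ?_
    obtain ⟨e, he⟩ := hdiv ⟨i, Finset.mem_range.1 hi⟩
    have : ∏ a ∈ Finset.range 6, c' i ^ (chevE6.cartan i (chevE6.simple a) * v a) =
        c' i ^ ((List.range 6).map fun a => v a * chevE6.cartan i (chevE6.simple a)).sum := by
      simp only [Finset.prod_range_succ, Finset.prod_range_zero, one_mul, ← zpow_add]
      congr 1
      simp [List.range_succ, mul_comm]
      ring
    rw [this, he, zpow_mul, show ((3 : ℤ)) = ((3 : ℕ) : ℤ) from rfl, zpow_natCast, hexp, one_zpow]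
  rw [Finset.prod_congr rfl fun a ha => by rw [h a (Finset.mem_range.1 ha)]] at h1
  simp only [Finset.prod_range_succ, Finset.prod_range_zero, one_mul, v, outExp] at h1
  norm_num at h1
  have e : (ω ^ 2) ^ m = (ω ^ m) ^ 2 := by rw [← pow_mul, ← pow_mul, mul_comm]
  rw [e] at h1
  have h2 : ω ^ m = (ω ^ m) ^ 2 := by rwa [mul_inv_eq_one] at h1
  calc ω ^ m = (ω ^ m)⁻¹ * (ω ^ m) ^ 2 := by rw [sq]; group
    _ = (ω ^ m)⁻¹ * ω ^ m := by rw [← h2]
    _ = 1 := inv_mul_cancel _

end Cfsg.Agent.Lib.Chev16
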