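import Cfsg.Agent.Lib.Chev16.Levels
import Cfsg.Agent.Lib.BNPair.Parabolic

/-!
The iterated cores of a maximal parabolic subgroup and its conjugate by the omitted reflection.
-/

set_option autoImplicit false

namespace Cfsg.Agent.Lib.Chev16

open Cfsg.Lie Cfsg.Agent.Lib.Chev

/-- The core in `M` of `Y ⊓ M`. -/
def coreIn {G : Type*} [Group G] (M Y : Subgroup G) : Subgroup G := (Y.subgroupOf M).normalCore.map M.subtype

theorem mem_coreIn {G : Type*} [Group G] {M Y : Subgroup G} {x : G} :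
    x ∈ coreIn M Y ↔ x ∈ M ∧ ∀ p ∈ M, p * x * p⁻¹ ∈ Y := by
  constructor
  · rintro ⟨y, hy, rfl⟩
    exact ⟨y.2, fun p hp => hy ⟨p, hp⟩⟩
  · rintro ⟨hx, hall⟩
    exact ⟨⟨x, hx⟩, fun p => hall p p.2, rfl⟩

/-- The two descending sequences. -/
def coreSeq {G : Type*} [Group G] (M₁ M₂ : Subgroup G) : ℕ → Subgroup G × Subgroup G
  | 0 => (M₁, M₂)
  | i + 1 => (coreIn M₁ ((coreSeq M₁ M₂ i).1 ⊓ (coreSeq M₁ M₂ i).2),
      coreIn M₂ ((coreSeq M₁ M₂ i).1 ⊓ (coreSeq M₁ M₂ i).2))

theorem coreSeq_fst_le {G : Type*} [Group G] (M₁ M₂ : Subgroup G) : ∀ i, (coreSeq M₁ M₂ i).1 ≤ M₁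
  | 0 => le_rfl
  | _ + 1 => fun _ hx => (mem_coreIn.1 hx).1

theorem coreSeq_conj {G : Type*} [Group G] (M : Subgroup G) {n : G} (hn : n * n = 1) : ∀ (i : ℕ) (x : G),
    x ∈ (coreSeq M (M.map (MulAut.conj n).toMonoidHom) i).2 ↔
      n * x * n⁻¹ ∈ (coreSeq M (M.map (MulAut.conj n).toMonoidHom) i).1 := by
  have hn' : n⁻¹ = n := inv_eq_of_mul_eq_one_left hn
  have htwice : ∀ x : G, n * (n * x * n) * n = x := fun x => by
    calc n * (n * x * n) * n = (n * n) * x * (n * n) := by group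
      _ = x := by rw [hn, one_mul, mul_one]
  have hmem : ∀ (H : Subgroup G) (x : G), x ∈ H.map (MulAut.conj n).toMonoidHom ↔ n * x * n⁻¹ ∈ H := by
    intro H x
    rw [hn']
    constructor
    · rintro ⟨y, hy, rfl⟩
      simp only [MulEquiv.coe_toMonoidHom, MulAut.conj_apply, hn', htwice]
      exact hy
    · intro hx
      exact ⟨_, hx, by simp only [MulEquiv.coe_toMonoidHom, MulAut.conj_apply, hn', htwice]⟩
  intro i
  induction i with
  | zero => exact hmem M
  | succ i ih =>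
    set A := (coreSeq M (M.map (MulAut.conj n).toMonoidHom) i).1 with hA
    set B := (coreSeq M (M.map (MulAut.conj n).toMonoidHom) i).2 with hB
    have hinv : ∀ y, y ∈ A ⊓ B → n * y * n⁻¹ ∈ A ⊓ B := by
      rintro y ⟨h1, h2⟩
      refine ⟨(ih y).1 h2, (ih _).2 ?_⟩
      rw [hn', htwice]
      exact h1
    intro x
    show x ∈ coreIn _ (A ⊓ B) ↔ n * x * n⁻¹ ∈ coreIn M (A ⊓ B)
    rw [mem_coreIn, mem_coreIn, hmem]
    refine and_congr_right fun _ => ⟨fun hall p hp => ?_, fun hall p hp => ?_⟩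
    · have := hinv _ (hall (n * p * n) ((hmem M _).2 (by rw [hn', htwice]; exact hp)))
      convert this using 1
      calc p * (n * x * n⁻¹) * p⁻¹ = (n * n) * p * n * x * n⁻¹ * p⁻¹ * (n * n)⁻¹ := by
            rw [hn]; group
        _ = _ := by group
    · have := hinv _ (hall (n * p * n⁻¹) ((hmem M p).1 hp))
      convert this using 1
      calc p * x * p⁻¹ = (n * n) * p * x * p⁻¹ * (n * n)⁻¹ := by rw [hn]; group
        _ = _ := by group

variable {D : ChevalleyDatum} {C : Cert} {F : Type*} [Field F] [Finite F] [Subsingleton Fˣ]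

/-- The maximal parabolic subgroup at the node `d`, inside the group. -/
def maxParabolic (D : ChevalleyDatum) (F : Type*) [Field F] (d : ℕ) : Subgroup ↥(D.group F) :=
  (D.parabolicSubgroup F (others D d : Set ℕ)).subgroupOf (D.group F)

variable (hh : Rooted D C) {d : ℕ} (hd : d < D.rank)
include hh hd

/-- The omitted reflection, inside the group. -/
noncomputable def nd : ↥(D.group F) := ⟨nS hh.toChecked F d, hh.nS_mem_group hd⟩

theorem coe_nd : ((nd (F := F) hh hd : ↥(D.group F)) : GL D.Idx F) = nS hh.toChecked F d := rfl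

theorem nd_mul_self : nd (F := F) hh hd * nd hh hd = 1 := Subtype.ext (nS_mul_self hh hd)

theorem maxParabolic_ne_top : maxParabolic D F d ≠ ⊤ := by
  intro e
  have : nd hh hd ∈ maxParabolic D F d := e ▸ Subgroup.mem_top _
  exact nS_notMem_parabolic hh hd this

theorem isCoatom_maxParabolic : IsCoatom (maxParabolic D F d) := by
  refine ⟨maxParabolic_ne_top hh hd, fun M hM => ?_⟩
  have hle := hM.le
  have hBM : (hh.bnPair F).B ≤ maxParabolic D F d := fun x hx =>
    (Subgroup.mem_sup_left hx : (x : GL D.Idx F) ∈ D.borelSubgroup F ⊔ _)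
  have hB : (hh.bnPair F).B ≤ M := hBM.trans hle
  obtain ⟨K, hK, rfl⟩ := BNPair.exists_eq_parabolic (hh.bnPair F) M hB
  have hgen : ∀ s ∈ (hh.bnPair F).S, ∃ i < D.rank, (s : GL D.Idx F) = nS hh.toChecked F i := by
    rintro s ⟨i, hi, e⟩
    exact ⟨i, hi, Units.ext (by rw [e, coe_nS _ hi])⟩
  by_cases hm : nd hh hd ∈ (hh.bnPair F).parabolic K
  · refine eq_top_iff.2 (BNPair.parabolic_S (hh.bnPair F) ▸ sup_le hB ((Subgroup.closure_le _).2 fun s hs => ?_))
    obtain ⟨i, hi, e⟩ := hgen s hs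
    by_cases hid : i = d
    · subst hid
      have : s = nd hh hd := Subtype.ext (by rw [e, coe_nd])
      exact this ▸ hm
    · refine hle ?_
      show (s : GL D.Idx F) ∈ D.parabolicSubgroup F (others D d : Set ℕ)
      rw [e]
      exact hh.nS_mem_parabolic (Finset.mem_erase.2 ⟨hid, Finset.mem_range.2 hi⟩) hi
  · refine absurd (sup_le ?_ ((Subgroup.closure_le _).2 fun s hs => ?_)) hM.not_ge
    · exact hBM
    · obtain ⟨i, hi, e⟩ := hgen s (hK hs)
      have hid : i ≠ d := by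
        rintro rfl
        have : s = nd hh hd := Subtype.ext (by rw [e, coe_nd])
        exact hm (this ▸ Subgroup.mem_sup_right (Subgroup.subset_closure hs))
      show (s : GL D.Idx F) ∈ D.parabolicSubgroup F (others D d : Set ℕ)
      rw [e]
      exact hh.nS_mem_parabolic (Finset.mem_erase.2 ⟨hid, Finset.mem_range.2 hi⟩) hi

theorem conj_maxParabolic_ne :
    maxParabolic D F d ≠ (maxParabolic D F d).map (MulAut.conj (nd hh hd)).toMonoidHom := by
  intro e
  have h := hh.toChecked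
  have hp := h.simple_spec hd
  let x : ↥(D.group F) := ⟨xGL h F hp.1 1, h.xGL_mem_group _ _⟩
  have hx : x ∈ maxParabolic D F d :=
    (Subgroup.mem_sup_left (Subgroup.mem_sup_left (h.xGL_mem_pos hp.1 hp.2 1)) :
      (x : GL D.Idx F) ∈ D.parabolicSubgroup F (others D d : Set ℕ))
  have h1 : MulAut.conj (nd hh hd) x ∈ maxParabolic D F d := by
    have := Subgroup.mem_map_of_mem (MulAut.conj (nd hh hd)).toMonoidHom hx
    rwa [← e] at this
  have h2 : nS h F d * xGL h F hp.1 1 * (nS h F d)⁻¹ ∈ D.parabolicSubgroup F (others D d : Set ℕ) := h1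
  rw [h.nS_conj_x hd hp.1, mul_inv_cancel_right, h.xGL_congr (h.simple_refl hd) _ (Checked.ng_lt hp.1)] at h2
  refine xNeg_notMem_parabolic hh hd (mul_ne_zero ?_ one_ne_zero) h2
  rcases eta_cases (C := C) d (D.simple d) with w | w <;> simp [w]

/-- The two sequences for the maximal parabolic subgroup and its conjugate. -/
noncomputable abbrev pcores (i : ℕ) : Subgroup ↥(D.group F) × Subgroup ↥(D.group F) :=
  coreSeq (maxParabolic D F d) ((maxParabolic D F d).map (MulAut.conj (nd hh hd)).toMonoidHom) i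

variable (hlow : ∀ r < D.nroots, 2 ≤ coef D C d r → coef D C d r - 1 ≤ coef D C d (refl C d r))


include hlow in
theorem lvl_le_coreSeq : ∀ (i : ℕ) (x : ↥(D.group F)),
    (x : GL D.Idx F) ∈ rootGen D F (lvl D C d ((i : ℤ) + 1)) → x ∈ (pcores hh hd i).1 := by
  intro i
  have h := hh.toChecked
  induction i with
  | zero => exact fun x hx => rootGen_lvl_le_parabolic hh hd (by norm_num) hx
  | succ i ih =>
    intro x hx
    refine mem_coreIn.2 ⟨rootGen_lvl_le_parabolic hh hd (by omega) hx, fun p hp => ?_⟩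
    have hy := (Subgroup.mem_normalizer_iff.1
      (parabolic_le_normalizer_lvl (F := F) hh hd (k := ((i + 1 : ℕ) : ℤ) + 1) (by omega) hp) _).1 hx
    refine ⟨ih _ (rootGen_mono (lvl_mono (by push_cast; omega)) hy), (coreSeq_conj _ (nd_mul_self hh hd) i _).2 ?_⟩
    refine ih _ ?_
    have h2 := h.conj_rootGen_le (F := F) (L := [d]) (by simp [IsWord, hd]) (fun r hr => hr.1)
      (M := rootGen D F (lvl D C d ((i : ℤ) + 1)))
      (fun r hr hrS t => mem_rootGen (t := t) ?_ (coe_xGL _ _ _)) hy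
    · rw [nProd_singleton] at h2
      exact h2
    · have h3 := hlow r hr (by have := hrS.2; push_cast at this; omega)
      refine ⟨h.refl_lt hd hr, ?_⟩
      have := hrS.2
      show (i : ℤ) + 1 ≤ coef D C d (refl C d r)
      push_cast at this
      omega

variable (hact : ∀ j ∈ others D d, ∃ r < D.nroots, coef D C d r = 1 ∧ D.cartan j r ≠ 0)
  (Ws : ℕ → List (List ℕ)) (top : ℕ)
  (hWs : ∀ k ≤ top, ∀ W ∈ Ws k, ∀ i ∈ W, i ∈ others D d)
  (h1 : ∀ r < D.nroots, coef D C d r = 1 → ∃ W ∈ Ws 1, perm C W r = D.simple d)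
  (hk : ∀ k ≤ top, 2 ≤ k → ∀ r < D.nroots, coef D C d r = (k : ℤ) →
    ∃ W ∈ Ws k, coef D C d (refl C d (perm C W r)) < (k : ℤ))

include hlow hact hWs h1 hk in
theorem coreSeq_le_lvl : ∀ i : ℕ, i + 1 ≤ top → ∀ x : ↥(D.group F), x ∈ (pcores hh hd (i + 1)).1 →
    (x : GL D.Idx F) ∈ rootGen D F (lvl D C d ((i : ℤ) + 2)) := by
  intro i
  have h := hh.toChecked
  induction i with
  | zero =>
    intro h1top x hx
    set N : Subgroup (GL D.Idx F) := (pcores hh hd 1).1.map (D.group F).subtype with hN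
    have hNP : N ≤ D.parabolicSubgroup F (others D d : Set ℕ) := by
      rintro _ ⟨y, hy, rfl⟩
      exact (mem_coreIn.1 hy).1
    have hNn : ∀ p ∈ D.parabolicSubgroup F (others D d : Set ℕ), ∀ z ∈ N, p * z * p⁻¹ ∈ N := by
      rintro p hp _ ⟨y, hy, rfl⟩
      refine ⟨⟨p, hh.parabolic_le_group _ hp⟩ * y * ⟨p, hh.parabolic_le_group _ hp⟩⁻¹, ?_, rfl⟩
      obtain ⟨a, b⟩ := mem_coreIn.1 hy
      refine mem_coreIn.2 ⟨mul_mem (mul_mem hp a) (inv_mem hp), fun q hq => ?_⟩
      have := b (q * ⟨p, hh.parabolic_le_group _ hp⟩) (mul_mem hq hp)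
      convert this using 1
      group
    have hnN : ∀ z ∈ N, nS h F d * z * (nS h F d)⁻¹ ∈ D.parabolicSubgroup F (others D d : Set ℕ) := by
      rintro _ ⟨y, hy, rfl⟩
      have := (mem_coreIn.1 hy).2 1 (one_mem _)
      rw [one_mul, inv_one, mul_one] at this
      exact (coreSeq_conj _ (nd_mul_self hh hd) 0 y).1 this.2
    have hQ : N ⊓ rootGen D F (lvl D C d 1) ≤ rootGen D F (lvl D C d 2) := by
      refine le_lvl_succ (k := 1) hh hd le_rfl ?_ (T := {r | r ∈ lvl D C d 1 ∧ r ≠ D.simple d}) ?_ ?_ ?_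
        (Ws 1) (hWs 1 h1top) ?_
      · intro p hp z hz
        exact ⟨hNn p hp z hz.1, (Subgroup.mem_normalizer_iff.1
          (parabolic_le_normalizer_lvl (F := F) hh hd le_rfl hp) z).1 hz.2⟩
      · refine fun r hr => ⟨lvl_mono (by norm_num) hr, fun e => ?_⟩
        have := hr.2
        rw [e, (h.simple_tab hd hd).2.1, if_pos rfl] at this
        omega
      · exact fun r hr => hr.1
      · exact fun z hz => mem_first_target hh hd hz.2 (hnN z hz.1)
      · intro r hr cr
        obtain ⟨W, hW, e⟩ := h1 r hr cr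
        exact ⟨W, hW, fun a => a.2 e⟩
    exact hQ ⟨⟨x, hx, rfl⟩, le_radical hh hd hact hNP hNn hQ ⟨x, hx, rfl⟩⟩
  | succ i ih =>
    intro htop x hx
    set k : ℤ := (i : ℤ) + 2 with hkdef
    set N : Subgroup (GL D.Idx F) := (pcores hh hd (i + 2)).1.map (D.group F).subtype with hN
    have hNn : ∀ p ∈ D.parabolicSubgroup F (others D d : Set ℕ), ∀ z ∈ N, p * z * p⁻¹ ∈ N := by
      rintro p hp _ ⟨y, hy, rfl⟩
      refine ⟨⟨p, hh.parabolic_le_group _ hp⟩ * y * ⟨p, hh.parabolic_le_group _ hp⟩⁻¹, ?_, rfl⟩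
      obtain ⟨a, b⟩ := mem_coreIn.1 hy
      refine mem_coreIn.2 ⟨mul_mem (mul_mem hp a) (inv_mem hp), fun q hq => ?_⟩
      have := b (q * ⟨p, hh.parabolic_le_group _ hp⟩) (mul_mem hq hp)
      convert this using 1
      group
    have hNT : N ≤ rootGen D F {r | r ∈ lvl D C d k ∧ k ≤ coef D C d (refl C d r)} := by
      rintro _ ⟨y, hy, rfl⟩
      have := (mem_coreIn.1 hy).2 1 (one_mem _)
      rw [one_mul, inv_one, mul_one] at this
      exact mem_target hh hd (by omega) hlow (ih (by omega) y this.1)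
        (ih (by omega) _ ((coreSeq_conj _ (nd_mul_self hh hd) (i + 1) y).1 this.2))
    have h2 := le_lvl_succ hh hd (k := k) (by omega) hNn
      (T := {r | r ∈ lvl D C d k ∧ k ≤ coef D C d (refl C d r)})
      (fun r hr => ⟨lvl_mono (by omega) hr, by
        have h3 := hlow r hr.1 (le_trans (by omega) hr.2)
        have := hr.2
        omega⟩)
      (fun r hr => hr.1) hNT (Ws (i + 2)) (hWs _ htop) (fun r hr cr => by
        obtain ⟨W, hW, e⟩ := hk (i + 2) htop (by omega) r hr (by rw [cr]; push_cast; omega)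
        refine ⟨W, hW, fun a => ?_⟩
        have := a.2
        push_cast at e
        omega) ⟨x, hx, rfl⟩
    have e : ((i + 1 : ℕ) : ℤ) + 2 = k + 1 := by rw [hkdef]; push_cast; ring
    rw [e]
    exact h2

end Cfsg.Agent.Lib.Chev16
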