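import Mathlib
import Cfsg.Agent.Lib.Chev.ParabolicFStar
import Cfsg.Agent.Lib.Chev.BorelTits

/-!
The filtration of the radical of a maximal parabolic subgroup by the coefficient of the omitted node,
for a field with one non-zero element.
-/

set_option autoImplicit false

namespace Cfsg.Agent.Lib.Chev16

open Cfsg.Lie Cfsg.Agent.Lib.Chev

variable {D : ChevalleyDatum} {C : Cert} {F : Type*} [Field F]

/-- The roots whose coefficient at the node `d` is at least `k`. -/
def lvl (D : ChevalleyDatum) (C : Cert) (d : ℕ) (k : ℤ) : Set ℕ := {r | r < D.nroots ∧ k ≤ coef D C d r}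

/-- The nodes other than `d`. -/
def others (D : ChevalleyDatum) (d : ℕ) : Finset ℕ := (Finset.range D.rank).erase d

theorem others_subset (d : ℕ) : others D d ⊆ Finset.range D.rank := Finset.erase_subset _ _

theorem lvl_mono {d : ℕ} {k k' : ℤ} (hk : k ≤ k') : lvl D C d k' ⊆ lvl D C d k :=
  fun _ hr => ⟨hr.1, hk.trans hr.2⟩

section

variable (h : Checked D C) {d : ℕ} (hd : d < D.rank)
include h hd

theorem lvl_subset_pos {k : ℤ} (hk : 1 ≤ k) : lvl D C d k ⊆ posSet D := fun _ hr =>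
  h.posSet_of_coef_pos hd hr.1 (lt_of_lt_of_le zero_lt_one (hk.trans hr.2))

theorem lvl_one_eq : lvl D C d 1 = outSet D C (others D d) := by
  ext r
  constructor
  · intro hr
    exact h.mem_outSet_of_coef_pos hr.1 hd (by simp [others]) (lt_of_lt_of_le zero_lt_one hr.2)
  · intro hr
    obtain ⟨l, hl, hlJ, hp⟩ := h.exists_coef_pos_of_not_supp hr
    have : l = d := by
      by_contra hne
      exact hlJ (Finset.mem_erase.2 ⟨hne, Finset.mem_range.2 hl⟩)
    exact ⟨hr.1.2, this ▸ hp⟩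

theorem closedSet_between {k : ℤ} (hk : 1 ≤ k) {S : Set ℕ} (h1 : lvl D C d (k + 1) ⊆ S)
    (h2 : S ⊆ lvl D C d k) : ClosedSet D C S := by
  intro r hr s hs _ _ c hc
  obtain ⟨hlt, hi, hj, hφ⟩ := h.cTerms_spec (h2 hr).1 (h2 hs).1 c hc
  refine h1 ⟨hlt, ?_⟩
  rw [hφ _ (h.isAdd_coef hd)]
  have e1 := (h2 hr).2
  have e2 := (h2 hs).2
  have hi' : (1 : ℤ) ≤ c.2.2.1 := by exact_mod_cast hi
  have hj' : (1 : ℤ) ≤ c.2.2.2 := by exact_mod_cast hj
  nlinarith

theorem lvl_up {k : ℤ} (hk : 0 ≤ k) {r a : ℕ} (hr : r ∈ posSet D) (ha : a ∈ lvl D C d k)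
    {c : ℕ × ℤ × ℕ × ℕ} (hc : c ∈ cTerms C r a) : c.1 ∈ lvl D C d k := by
  obtain ⟨hlt, -, hj, hφ⟩ := h.cTerms_spec hr.2 ha.1 c hc
  refine ⟨hlt, ?_⟩
  rw [hφ _ (h.isAdd_coef hd)]
  have e1 := h.coef_nonneg hd hr.2 hr.1
  have e2 := ha.2
  have hi' : (0 : ℤ) ≤ c.2.2.1 := Nat.cast_nonneg _
  have hj' : (1 : ℤ) ≤ c.2.2.2 := by exact_mod_cast hj
  nlinarith

theorem coef_perm_others : ∀ {W : List ℕ}, (∀ i ∈ W, i ∈ others D d) → ∀ {r : ℕ}, r < D.nroots →
    perm C W r < D.nroots ∧ coef D C d (perm C W r) = coef D C d r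
  | [], _, _, hr => ⟨hr, rfl⟩
  | i :: W, hW, r, hr => by
    obtain ⟨h1, h2⟩ := coef_perm_others (fun x hx => hW x (List.mem_cons_of_mem _ hx)) hr
    obtain ⟨hne, hi⟩ := Finset.mem_erase.1 (hW i List.mem_cons_self)
    refine ⟨h.refl_lt (Finset.mem_range.1 hi) h1, ?_⟩
    rw [perm_cons, h.coef_refl (Finset.mem_range.1 hi) hd h1, if_neg (Ne.symm hne), sub_zero, h2]

theorem isAdd_coef_refl : ∃ φ : ℕ → ℤ, IsAdd D C φ ∧ ∀ r < D.nroots, φ r = coef D C d (refl C d r) := by
  have hL : IsWord D [d] := by simp [IsWord, hd]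
  refine ⟨_, h.isAdd_sum (fun l => coef D C d (perm C [d] (D.simple l))), fun r hr => ?_⟩
  have := h.coef_perm hd hL hr
  show _ = coef D C d (perm C [d] r)
  rw [this]
  exact Finset.sum_congr rfl fun l _ => mul_comm _ _

end

section

variable (hh : Rooted D C) {d : ℕ} (hd : d < D.rank)
include hh hd

theorem parabolic_le_normalizer_lvl [Finite F] {k : ℤ} (hk : 1 ≤ k) :
    D.parabolicSubgroup F (others D d : Set ℕ) ≤
      Subgroup.normalizer (rootGen D F (lvl D C d k) : Set (GL D.Idx F)) := by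
  have h := hh.toChecked
  have hS := lvl_subset_pos h hd hk
  have hB := hh.borel_le_normalizer_of_up (F := F) hS
    fun r hr a ha c hc => lvl_up h hd (zero_le_one.trans hk) hr ha hc
  refine sup_le hB ((Subgroup.closure_le _).2 ?_)
  rintro g ⟨j, hjJ, hj, e⟩
  have hg : g = nS h F j := Units.ext (by rw [e, coe_nS _ hj])
  subst hg
  have hconj : ∀ a ∈ rootGen D F (lvl D C d k), nS h F j * a * (nS h F j)⁻¹ ∈ rootGen D F (lvl D C d k) := by
    intro a ha
    have := h.conj_rootGen_le (F := F) (L := [j]) (by simp [IsWord, hj]) (fun r hr => hr.1)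
      (M := rootGen D F (lvl D C d k)) (fun r hr hrS t => mem_rootGen (t := t) ?_ (coe_xGL _ _ _)) ha
    · rwa [nProd_singleton] at this
    · obtain ⟨a1, a2⟩ := coef_perm_others h hd (W := [j]) (by simpa using hjJ) hr
      exact ⟨a1, a2.symm ▸ hrS.2⟩
  rw [SetLike.mem_coe, Subgroup.mem_normalizer_iff]
  intro a
  refine ⟨hconj a, fun ha => ?_⟩
  have hsq := (Subgroup.mem_normalizer_iff.1
    (hB (Subgroup.mem_sup_right (inv_mem (hh.nS_sq (F := F) hj)))) _).1 (hconj _ ha)
  convert hsq using 1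
  group

theorem rootGen_lvl_le_parabolic {k : ℤ} (hk : 1 ≤ k) :
    rootGen D F (lvl D C d k) ≤ D.parabolicSubgroup F (others D d : Set ℕ) := fun _ hx =>
  Subgroup.mem_sup_left (Subgroup.mem_sup_left
    (hh.toChecked.rootGen_le_posUnipotent (lvl_subset_pos hh.toChecked hd hk) hx))

/-- A subgroup invariant under the parabolic subgroup and lying in the group of a set `T` between two
consecutive terms lies in the lower term, when every root of the upper level can be moved out of `T`. -/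
theorem le_lvl_succ {k : ℤ} (hk : 1 ≤ k) {N : Subgroup (GL D.Idx F)}
    (hN : ∀ p ∈ D.parabolicSubgroup F (others D d : Set ℕ), ∀ x ∈ N, p * x * p⁻¹ ∈ N)
    {T : Set ℕ} (hT1 : lvl D C d (k + 1) ⊆ T) (hT2 : T ⊆ lvl D C d k) (hNT : N ≤ rootGen D F T)
    (Ws : List (List ℕ)) (hWs : ∀ W ∈ Ws, ∀ i ∈ W, i ∈ others D d)
    (hc : ∀ r < D.nroots, coef D C d r = k → ∃ W ∈ Ws, perm C W r ∉ T) :
    N ≤ rootGen D F (lvl D C d (k + 1)) := by
  have h := hh.toChecked
  let S : List (List ℕ) → Set ℕ := fun l => {r | r ∈ lvl D C d k ∧ ∀ W ∈ l, perm C W r ∈ T}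
  have hbet : ∀ l : List (List ℕ), (∀ W ∈ l, ∀ i ∈ W, i ∈ others D d) → lvl D C d (k + 1) ⊆ S l := by
    intro l hl r hr
    refine ⟨lvl_mono (by omega) hr, fun W hW => hT1 ?_⟩
    obtain ⟨a1, a2⟩ := coef_perm_others h hd (hl W hW) hr.1
    exact ⟨a1, a2.symm ▸ hr.2⟩
  have hsub : ∀ l, S l ⊆ posSet D := fun l r hr => lvl_subset_pos h hd hk hr.1
  have key : ∀ l : List (List ℕ), (∀ W ∈ l, ∀ i ∈ W, i ∈ others D d) → ∀ x ∈ N, x ∈ rootGen D F (S l) := by
    intro l
    induction l with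
    | nil =>
      intro _ x hx
      refine rootGen_mono ?_ (hNT hx)
      exact fun r hr => ⟨hT2 hr, fun W hW => absurd hW (List.not_mem_nil)⟩
    | cons W l ih =>
      intro hl x hx
      have hl' : ∀ V ∈ l, ∀ i ∈ V, i ∈ others D d := fun V hV => hl V (List.mem_cons_of_mem _ hV)
      have hW := hl W List.mem_cons_self
      have hWr : ∀ i ∈ W.reverse, i ∈ others D d := fun i hi => hW i (List.mem_reverse.1 hi)
      have hWw : IsWord D W := fun i hi => Finset.mem_range.1 (others_subset d (hW i hi))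
      set g := nProd h F W.reverse with hg
      have hgP : g ∈ D.parabolicSubgroup F (others D d : Set ℕ) :=
        hh.nProd_mem_parabolic (others_subset d) hWr
      have hy : g⁻¹ * x * g⁻¹⁻¹ ∈ rootGen D F T := hNT (hN _ (inv_mem hgP) x hx)
      have hx1 : g * (g⁻¹ * x * g⁻¹⁻¹) * g⁻¹ ∈ rootGen D F (S [W]) := by
        refine h.conj_rootGen_le hWw.reverse (fun r hr => (hT2 hr).1)
          (fun r hr hrT t => mem_rootGen (t := t) ?_ (coe_xGL _ _ _)) hy
        obtain ⟨a1, a2⟩ := coef_perm_others h hd hWr hr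
        refine ⟨⟨a1, by show k ≤ _; erw [a2]; exact (hT2 hrT).2⟩, fun V hV => ?_⟩
        have e := h.perm_reverse hWw.reverse hr
        rw [List.reverse_reverse] at e
        rw [List.mem_singleton.1 hV, e]
        exact hrT
      have e : g * (g⁻¹ * x * g⁻¹⁻¹) * g⁻¹ = x := by group
      rw [e] at hx1
      have := hh.mem_rootGen_inter (hsub [W]) (hsub l)
        (closedSet_between h hd hk (hbet [W] (by simpa using hW)) (fun r hr => hr.1))
        (closedSet_between h hd hk (hbet l hl') (fun r hr => hr.1)) hx1 (ih hl' x hx)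
      refine rootGen_mono ?_ this
      rintro r ⟨⟨hr, h1⟩, -, h2⟩
      exact ⟨hr, List.forall_mem_cons.2 ⟨h1 W (List.mem_singleton.2 rfl), h2⟩⟩
  intro x hx
  refine rootGen_mono ?_ (key Ws hWs x hx)
  rintro r ⟨hr, hall⟩
  refine ⟨hr.1, ?_⟩
  by_contra hlt
  obtain ⟨W, hW, hWT⟩ := hc r hr.1 (by have := hr.2; omega)
  exact hWT (hall W hW)

theorem nS_notMem_parabolic [Finite F] :
    nS hh.toChecked F d ∉ D.parabolicSubgroup F (others D d : Set ℕ) := by
  intro hm
  have h := hh.toChecked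
  obtain ⟨u, hu, hb⟩ := hh.exists_weyl_of_mem_parabolic hm
  have hs : nS hh.toChecked F d ∈ bcell hh.toChecked F (sigma hh.toChecked d) := by
    have := hh.nProd_mem_bcell (F := F) (L := [d]) (by simp [IsWord, hd])
    rwa [nProd_singleton, show wperm hh.toChecked [d] = sigma hh.toChecked d by simp [wperm]] at this
  have e := hh.bcell_unique hb hs
  have h1 := h.coef_eq_of_mem (others_subset d) hu hd (by simp [others]) (h.sroot hd)
  rw [e, h.sigma_sroot hd, show (ngFin (h.sroot hd)).val = ng D (D.simple d) from rfl,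
    h.coef_neg hd (h.simple_lt hd), show (h.sroot hd).val = D.simple d from rfl,
    (h.simple_tab hd hd).2.1, if_pos rfl] at h1
  omega

variable [Subsingleton Fˣ]

theorem diagonal_eq_bot : D.diagonalSubgroup F = ⊥ := by
  rw [hh.diagonalSubgroup_eq, eq_bot_iff]
  rintro _ ⟨c, rfl⟩
  rw [Subsingleton.elim c 1, map_one]
  exact one_mem _

theorem nS_mul_self : nS hh.toChecked F d * nS hh.toChecked F d = 1 := by
  have := hh.nS_sq (F := F) hd
  rwa [diagonal_eq_bot hh hd, Subgroup.mem_bot] at this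

theorem xNeg_notMem_parabolic [Finite F] {t : F} (ht : t ≠ 0) :
    xGL hh.toChecked F (Checked.ng_lt (hh.toChecked.simple_lt hd)) t ∉
      D.parabolicSubgroup F (others D d : Set ℕ) := by
  intro hm
  have h := hh.toChecked
  have et : t = -1 := by
    have := Subsingleton.elim (Units.mk0 t ht) (Units.mk0 (-1 : F) (neg_ne_zero.2 one_ne_zero))
    exact congrArg Units.val this
  subst et
  have hp := h.simple_spec hd
  have hx : xGL h F hp.1 1 ∈ D.parabolicSubgroup F (others D d : Set ℕ) :=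
    Subgroup.mem_sup_left (Subgroup.mem_sup_left (h.xGL_mem_pos hp.1 hp.2 1))
  refine nS_notMem_parabolic (F := F) hh hd ?_
  convert mul_mem (mul_mem hx hm) hx using 1
  refine Units.ext ?_
  rw [coe_nS _ hd, Units.val_mul, Units.val_mul, coe_xGL, coe_xGL]
  simp only [ChevalleyDatum.nMat, ChevalleyDatum.nWord, ChevalleyDatum.wordMat, List.map_cons, List.map_nil,
    List.prod_cons, List.prod_nil, mul_one, h.neg_eq hp.1, inv_one, mul_assoc]

/-- An element of the first term whose conjugate by `n` lies in the parabolic subgroup avoids the simple root. -/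
theorem mem_first_target [Finite F] {y : GL D.Idx F} (hy : y ∈ rootGen D F (lvl D C d 1))
    (hny : nS hh.toChecked F d * y * (nS hh.toChecked F d)⁻¹ ∈ D.parabolicSubgroup F (others D d : Set ℕ)) :
    y ∈ rootGen D F {r | r ∈ lvl D C d 1 ∧ r ≠ D.simple d} := by
  have h := hh.toChecked
  have hp := h.simple_spec hd
  obtain ⟨hnorm, hsup⟩ := hh.simple_sdiff (F := F) hd
  have hy' : y ∈ (↑(rootGen D F (posSet D \ {D.simple d}) ⊔ D.rootSubgroup F (D.simple d)) :
      Set (GL D.Idx F)) := by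
    rw [hsup]
    exact h.rootGen_le_posUnipotent (lvl_subset_pos h hd le_rfl) hy
  rw [Subgroup.coe_mul_of_right_le_normalizer_left _ _ (le_trans le_sup_left hnorm)] at hy'
  obtain ⟨u, hu, z, hz, rfl⟩ := hy'
  obtain ⟨t, rfl⟩ := (h.rootSubgroup_mem_iff hp.1).1 hz
  have ht : t = 0 := by
    by_contra ht
    set n := nS h F d with hn
    have h1 : n * u * n⁻¹ ∈ D.parabolicSubgroup F (others D d : Set ℕ) :=
      Subgroup.mem_sup_left (hh.simple_sdiff_le (hh.nS_conj_simple_sdiff hd hu))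
    have h2 : n * xGL h F hp.1 t * n⁻¹ ∈ D.parabolicSubgroup F (others D d : Set ℕ) := by
      have := mul_mem (inv_mem h1) hny
      convert this using 1
      group
    rw [hn, h.nS_conj_x hd hp.1, mul_inv_cancel_right, h.xGL_congr (h.simple_refl hd) _
      (Checked.ng_lt hp.1)] at h2
    refine xNeg_notMem_parabolic hh hd (mul_ne_zero ?_ ht) h2
    rcases eta_cases (C := C) d (D.simple d) with w | w <;> simp [w]
  subst ht
  have e : xGL h F hp.1 (0 : F) = 1 := Units.ext (by rw [coe_xGL, h.x_zero hp.1]; rfl)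
  simp only [e, mul_one] at hy ⊢
  refine rootGen_mono ?_ (hh.mem_rootGen_inter (lvl_subset_pos h hd le_rfl) (fun r hr => hr.1)
    (closedSet_between h hd le_rfl (lvl_mono (by norm_num)) subset_rfl) ?_ hy hu)
  · rintro r ⟨hr, -, hne⟩
    exact ⟨hr, hne⟩
  · intro r hr s hs _ _ c hc
    obtain ⟨a, b, _⟩ := h.cTerms_pos hr.1 hs.1 hc
    refine ⟨a, fun e' => ?_⟩
    rw [Set.mem_singleton_iff] at e'
    obtain ⟨hlt, hi, hj, hφ⟩ := h.cTerms_spec hr.1.2 hs.1.2 c hc
    have e3 := hφ _ h.isAdd_ht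
    rw [e', h.simple_ht hd] at e3
    have h1 := h.ht_pos hr.1.2 hr.1.1
    have h2 := h.ht_pos hs.1.2 hs.1.1
    have hi' : (1 : ℤ) ≤ c.2.2.1 := by exact_mod_cast hi
    have hj' : (1 : ℤ) ≤ c.2.2.2 := by exact_mod_cast hj
    nlinarith

/-- The analogue for the deeper terms. -/
theorem mem_target {k : ℤ} (hk : 2 ≤ k)
    (hlow : ∀ r < D.nroots, 2 ≤ coef D C d r → coef D C d r - 1 ≤ coef D C d (refl C d r))
    {y : GL D.Idx F} (hy : y ∈ rootGen D F (lvl D C d k))
    (hny : nS hh.toChecked F d * y * (nS hh.toChecked F d)⁻¹ ∈ rootGen D F (lvl D C d k)) :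
    y ∈ rootGen D F {r | r ∈ lvl D C d k ∧ k ≤ coef D C d (refl C d r)} := by
  have h := hh.toChecked
  set R : Set ℕ := {r | r < D.nroots ∧ k ≤ coef D C d (refl C d r)} with hR
  have hRpos : R ⊆ posSet D := by
    intro r hr
    have h1 := hlow _ (h.refl_lt hd hr.1) (hk.trans hr.2)
    rw [h.refl_refl hd hr.1] at h1
    exact h.posSet_of_coef_pos hd hr.1 (by have := hr.2; omega)
  have hRcl : ClosedSet D C R := by
    intro r hr s hs _ _ c hc
    obtain ⟨φ, hadd, eφ⟩ := isAdd_coef_refl h hd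
    obtain ⟨hlt, hi, hj, hφ⟩ := h.cTerms_spec hr.1 hs.1 c hc
    refine ⟨hlt, ?_⟩
    rw [← eφ _ hlt, hφ φ hadd, eφ _ hr.1, eφ _ hs.1]
    have e1 := hr.2
    have e2 := hs.2
    have hi' : (1 : ℤ) ≤ c.2.2.1 := by exact_mod_cast hi
    have hj' : (1 : ℤ) ≤ c.2.2.2 := by exact_mod_cast hj
    nlinarith
  set n := nS h F d with hn
  have hyR : y ∈ rootGen D F R := by
    have h2 := h.conj_rootGen_le (F := F) (L := [d]) (by simp [IsWord, hd]) (fun r hr => hr.1)
      (M := rootGen D F R) (fun r hr hrS t => mem_rootGen (t := t) ?_ (coe_xGL _ _ _)) hny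
    · rw [nProd_singleton, ← hn] at h2
      have e : n * (n * y * n⁻¹) * n⁻¹ = y := by
        calc n * (n * y * n⁻¹) * n⁻¹ = (n * n) * y * (n * n)⁻¹ := by group
          _ = y := by rw [hn, nS_mul_self hh hd]; group
      rwa [e] at h2
    · refine ⟨h.refl_lt hd hr, ?_⟩
      show k ≤ coef D C d (refl C d (refl C d r))
      rw [h.refl_refl hd hr]
      exact hrS.2
  refine rootGen_mono ?_ (hh.mem_rootGen_inter (lvl_subset_pos h hd (by omega)) hRpos
      (closedSet_between h hd (by omega) (lvl_mono (by omega)) subset_rfl) hRcl hy hyR)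
  exact fun r hr => ⟨hr.1, hr.2.2⟩

/-- An invariant subgroup meeting the radical in its second term lies in the radical. -/
theorem le_radical [Finite F] (hact : ∀ j ∈ others D d, ∃ r < D.nroots, coef D C d r = 1 ∧ D.cartan j r ≠ 0)
    {N : Subgroup (GL D.Idx F)} (hNP : N ≤ D.parabolicSubgroup F (others D d : Set ℕ))
    (hN : ∀ p ∈ D.parabolicSubgroup F (others D d : Set ℕ), ∀ x ∈ N, p * x * p⁻¹ ∈ N)
    (hQ : N ⊓ rootGen D F (lvl D C d 1) ≤ rootGen D F (lvl D C d 2)) :
    N ≤ rootGen D F (lvl D C d 1) := by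
  have h := hh.toChecked
  set J := others D d with hJdef
  have hJ : J ⊆ Finset.range D.rank := others_subset d
  -- root elements of level one are congruent under `B` only for equal roots
  have hcong : ∀ {r s : ℕ} (hr : r < D.nroots) (hs : s < D.nroots), coef D C d r = 1 → coef D C d s = 1 →
      ∀ {b z : GL D.Idx F}, b ∈ D.borelSubgroup F → z ∈ rootGen D F (lvl D C d 2) → ∀ {a e : F}, a ≠ 0 →
      b * xGL h F hs e * b⁻¹ = z * xGL h F hr a → r = s ∨ ht D C s < ht D C r := by
    intro r s hr hs cr cs b z hb hz a e ha he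
    set S : Set ℕ := {x | x ∈ lvl D C d 1 ∧ (x ∈ fromSet D C s ∨ x ∈ lvl D C d 2)} with hS
    have hsp : S ⊆ posSet D := fun x hx => lvl_subset_pos h hd le_rfl hx.1
    have h2S : lvl D C d (1 + 1) ⊆ S := fun x hx => ⟨lvl_mono (by norm_num) hx, Or.inr (by simpa using hx)⟩
    have hBn := hh.borel_le_normalizer_of_up (F := F) hsp fun x hx a ha c hc => show c.1 ∈ S by
      refine ⟨lvl_up h hd zero_le_one hx ha.1 hc, ?_⟩
      rcases ha.2 with h' | h'
      · left
        have hle : ht D C s ≤ ht D C a := by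
          rcases h'.2 with e' | e'
          · rw [e']
          · exact e'.le
        have h1 := hh.higher_of_cTerms hx h'.1 hle hc
        exact ⟨h1.1, Or.inr h1.2⟩
      · exact Or.inr (lvl_up h hd zero_le_two hx h' hc)
    have hsS : s ∈ S := ⟨⟨hs, cs.ge⟩, Or.inl ⟨lvl_subset_pos h hd le_rfl ⟨hs, cs.ge⟩, Or.inl rfl⟩⟩
    have h1 := (Subgroup.mem_normalizer_iff.1 (hBn hb) _).1 (mem_rootGen (F := F) (S := S) (t := e) hsS
      (coe_xGL h hs e))
    rw [he] at h1
    have hz' : z ∈ rootGen D F S := rootGen_mono (fun x hx => h2S (by simpa using hx)) hz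
    have h2 := mul_mem (inv_mem hz') h1
    rw [inv_mul_cancel_left] at h2
    have h3 := hh.mem_of_x_mem_rootGen hsp (closedSet_between h hd le_rfl h2S fun x hx => hx.1)
      (lvl_subset_pos h hd le_rfl ⟨hr, cr.ge⟩) ha h2
    rcases h3.2 with h4 | h4
    · exact h4.2
    · have := h4.2; omega
  have hnorm2 := parabolic_le_normalizer_lvl (F := F) hh hd (k := 2) (by norm_num)
  have hnorm1 := parabolic_le_normalizer_lvl (F := F) hh hd (k := 1) le_rfl
  have hNB : ∀ g ∈ N, g ∈ D.borelSubgroup F := by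
    intro g hg
    obtain ⟨w, hw, hgw⟩ := hh.exists_weyl_of_mem_parabolic (hNP hg)
    obtain ⟨L, hLJ, hLw⟩ := h.exists_wperm hw
    have hL : IsWord D L := fun i hi => Finset.mem_range.1 (hJ (hLJ i hi))
    obtain ⟨b, hb, c, hcB, e⟩ := hh.exists_of_mem_bcell hL (hLw.symm ▸ hgw)
    have hfix : ∀ r, r < D.nroots → coef D C d r = 1 → perm C L r = r := by
      intro r hr cr
      obtain ⟨hr', cr'⟩ := coef_perm_others h hd hLJ hr
      rw [cr] at cr'
      set k : GL D.Idx F := c⁻¹ * xGL h F hr 1 * c with hk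
      have hcP : c ∈ D.parabolicSubgroup F (J : Set ℕ) := Subgroup.mem_sup_left hcB
      have hkQ : k ∈ rootGen D F (lvl D C d 1) := by
        have := (Subgroup.mem_normalizer_iff.1 (hnorm1 (inv_mem hcP)) _).1
          (mem_rootGen (F := F) (S := lvl D C d 1) (t := (1 : F)) ⟨hr, cr.ge⟩ (coe_xGL h hr 1))
        simpa [hk] using this
      have hkP : k ∈ D.parabolicSubgroup F (J : Set ℕ) := rootGen_lvl_le_parabolic hh hd le_rfl hkQ
      have hz : g * k * g⁻¹ * k⁻¹ ∈ rootGen D F (lvl D C d 2) := by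
        refine hQ (Subgroup.mem_inf.2 ⟨?_, mul_mem ?_ (inv_mem hkQ)⟩)
        · have := mul_mem hg (hN k hkP _ (inv_mem hg))
          simpa [mul_assoc] using this
        · exact (Subgroup.mem_normalizer_iff.1 (hnorm1 (hNP hg)) _).1 hkQ
      set z : GL D.Idx F := c * (g * k * g⁻¹ * k⁻¹) * c⁻¹ with hzdef
      have hzmem : z ∈ rootGen D F (lvl D C d 2) := (Subgroup.mem_normalizer_iff.1 (hnorm2 hcP) _).1 hz
      have e2 : nProd h F L * xGL h F hr 1 * (nProd h F L)⁻¹ = xGL h F hr' ((weta C L r : F) * 1) := by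
        rw [mul_inv_eq_iff_eq_mul]
        exact Units.ext (by rw [Units.val_mul, Units.val_mul, coe_xGL, coe_xGL, h.nProd_mul_x hL hr])
      have e3 : (c * b) * xGL h F hr' ((weta C L r : F) * 1) * (c * b)⁻¹ = z * xGL h F hr 1 := by
        rw [← e2, hzdef, hk, e]
        group
      have hne : ((weta C L r : F) * 1) ≠ 0 := by
        rcases weta_cases (C := C) L r with h1 | h1 <;> rw [h1] <;> simp
      have hcb : c * b ∈ D.borelSubgroup F := mul_mem hcB hb
      have e4 : (c * b)⁻¹ * xGL h F hr 1 * (c * b)⁻¹⁻¹ =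
          ((c * b)⁻¹ * z⁻¹ * (c * b)⁻¹⁻¹) * xGL h F hr' ((weta C L r : F) * 1) := by
        calc (c * b)⁻¹ * xGL h F hr 1 * (c * b)⁻¹⁻¹ = (c * b)⁻¹ * z⁻¹ * (z * xGL h F hr 1) * (c * b) := by group
          _ = _ := by rw [← e3]; group
      have hzz : (c * b)⁻¹ * z⁻¹ * (c * b)⁻¹⁻¹ ∈ rootGen D F (lvl D C d 2) :=
        (Subgroup.mem_normalizer_iff.1 (hnorm2 (Subgroup.mem_sup_left (inv_mem hcb))) _).1 (inv_mem hzmem)
      rcases hcong hr hr' cr cr' hcb hzmem one_ne_zero e3 with h1 | h1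
      · exact h1.symm
      rcases hcong hr' hr cr' cr (inv_mem hcb) hzz hne e4 with h2 | h2
      · exact h2
      · omega
    have hw1 : w = 1 := by
      refine hh.eq_one_of_asc_parabolic hJ hw fun j hj hjs => ?_
      have hjr := Finset.mem_range.1 (hJ hj)
      obtain ⟨r, hr, cr, hr0⟩ := hact j hj
      obtain ⟨hr', cr'⟩ := coef_perm_others h hd (W := [j]) (by simpa using hj) hr
      rw [cr] at cr'
      have hcoef : coef D C j (perm C L (D.simple j)) = coef D C j (D.simple j) := by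
        have a1 := h.coef_perm hjr hL (r := r) hr
        have a2 := h.coef_perm hjr hL (r := refl C j r) hr'
        rw [hfix r hr cr] at a1
        rw [hfix (refl C j r) hr' cr', h.coef_refl hjr hjr hr, if_pos rfl] at a2
        have a3 : ∀ l ∈ Finset.range D.rank, coef D C l (refl C j r) * coef D C j (perm C L (D.simple l)) =
            coef D C l r * coef D C j (perm C L (D.simple l)) -
              (if l = j then D.cartan j r * coef D C j (perm C L (D.simple l)) else 0) := by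
          intro l hl
          rw [h.coef_refl hjr (Finset.mem_range.1 hl) hr]
          split_ifs <;> ring
        rw [Finset.sum_congr rfl a3, Finset.sum_sub_distrib, Finset.sum_ite_eq' (Finset.range D.rank) j,
          if_pos (Finset.mem_range.2 hjr), ← a1] at a2
        rw [(h.simple_tab hjr hjr).2.1, if_pos rfl]
        have a4 : D.cartan j r * coef D C j (perm C L (D.simple j)) = D.cartan j r * 1 := by linarith
        exact mul_left_cancel₀ hr0 a4
      rw [(h.simple_tab hjr hjr).2.1, if_pos rfl] at hcoef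
      have hv : (w ⟨D.simple j, hjs⟩).val = perm C L (D.simple j) := by
        rw [← hLw, h.wperm_val hL]
      rw [hv]
      exact (h.posSet_of_coef_pos hjr (h.perm_lt hL hjs) (by rw [hcoef]; norm_num)).1
    exact hh.mem_bcell_one.1 (hw1 ▸ hgw)
  obtain ⟨t, ht⟩ := hh.exists_top hJ
  obtain ⟨T, hTJ, hTt⟩ := h.exists_wperm ht.1
  have hT : IsWord D T := fun i hi => Finset.mem_range.1 (hJ (hTJ i hi))
  intro x hx
  have hxt := (hh.conj_top_mem_borel_iff hJ hT (hTt.symm ▸ ht) (hNB x hx)).1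
    (hNB _ (hN _ (hh.nProd_mem_parabolic hJ hTJ) x hx))
  rwa [diagonal_eq_bot hh hd, sup_bot_eq, ← lvl_one_eq h hd] at hxt

end

end Cfsg.Agent.Lib.Chev16
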